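import Mathlib

set_option autoImplicit false
universe u
open TensorProduct

namespace Groth.Agent.H5.Ribbon

variable {A B : Type*} [CommRing A] [CommRing B] [Algebra A B]

/-- `b ⊗ k ↦ a k` for `a` lifting `b`, well defined when `K · K = 0`. -/
noncomputable def psi (hs : Function.Surjective (algebraMap A B))
    (hK : ∀ x ∈ RingHom.ker (algebraMap A B), ∀ y ∈ RingHom.ker (algebraMap A B), x * y = 0) :
    B ⊗[A] (RingHom.ker (algebraMap A B)) →ₗ[A] (RingHom.ker (algebraMap A B)) :=
  TensorProduct.lift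
    ((Submodule.liftQ (LinearMap.ker (Algebra.linearMap A B))
        (LinearMap.lsmul A (RingHom.ker (algebraMap A B))) (by
          intro a ha
          rw [LinearMap.mem_ker] at ha ⊢
          ext k
          have h1 : a ∈ RingHom.ker (algebraMap A B) := by
            rw [RingHom.mem_ker]; exact ha
          change ((a • k : RingHom.ker (algebraMap A B)) : A) = ((0 : RingHom.ker (algebraMap A B)) : A)
          rw [Submodule.coe_smul, smul_eq_mul, Submodule.coe_zero]
          exact hK a h1 k.1 k.2)) ∘ₗ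
      (LinearMap.quotKerEquivOfSurjective (Algebra.linearMap A B) hs).symm.toLinearMap)

theorem psi_tmul (hs : Function.Surjective (algebraMap A B))
    (hK : ∀ x ∈ RingHom.ker (algebraMap A B), ∀ y ∈ RingHom.ker (algebraMap A B), x * y = 0)
    (a : A) (k : RingHom.ker (algebraMap A B)) :
    psi hs hK (algebraMap A B a ⊗ₜ k) = a • k := by
  unfold psi
  rw [TensorProduct.lift.tmul]
  have h1 : (LinearMap.quotKerEquivOfSurjective (Algebra.linearMap A B) hs).symm
      (algebraMap A B a) = Submodule.Quotient.mk a := by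
    rw [LinearEquiv.symm_apply_eq, LinearMap.quotKerEquivOfSurjective_apply_mk]
    rfl
  simp only [LinearMap.coe_comp, LinearEquiv.coe_coe, Function.comp_apply]
  rw [h1, Submodule.liftQ_apply]
  rfl

theorem one_tmul_injective (hs : Function.Surjective (algebraMap A B))
    (hK : ∀ x ∈ RingHom.ker (algebraMap A B), ∀ y ∈ RingHom.ker (algebraMap A B), x * y = 0)
    (k k' : RingHom.ker (algebraMap A B))
    (h : (1 : B) ⊗ₜ[A] k = (1 : B) ⊗ₜ[A] k') : k = k' := by
  have h1 := congrArg (psi hs hK) h
  rw [← map_one (algebraMap A B), psi_tmul, psi_tmul, one_smul, one_smul] at h1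
  exact h1

theorem exists_one_tmul (hs : Function.Surjective (algebraMap A B))
    (t : B ⊗[A] (RingHom.ker (algebraMap A B))) :
    ∃ k : RingHom.ker (algebraMap A B), t = (1 : B) ⊗ₜ[A] k := by
  induction t using TensorProduct.induction_on with
  | zero => exact ⟨0, (TensorProduct.tmul_zero _ _).symm⟩
  | tmul b k =>
    obtain ⟨a, rfl⟩ := hs b
    refine ⟨a • k, ?_⟩
    rw [TensorProduct.tmul_smul, TensorProduct.smul_tmul', Algebra.smul_def, mul_one]
  | add x y hx hy =>
    obtain ⟨k, rfl⟩ := hx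
    obtain ⟨k', rfl⟩ := hy
    exact ⟨k + k', (TensorProduct.tmul_add _ _ _).symm⟩

theorem algebraMap_smul_one_tmul (a : A) (k : RingHom.ker (algebraMap A B)) :
    (algebraMap A B a) • ((1 : B) ⊗ₜ[A] k) = (1 : B) ⊗ₜ[A] (a • k) := by
  rw [TensorProduct.smul_tmul', smul_eq_mul, mul_one, TensorProduct.tmul_smul,
    TensorProduct.smul_tmul', Algebra.smul_def, mul_one]

/-- principal with annihilator condition ⇒ `B ⊗ K` free of rank one. -/
theorem nonempty_equiv_of_principal (hs : Function.Surjective (algebraMap A B))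
    (hK : ∀ x ∈ RingHom.ker (algebraMap A B), ∀ y ∈ RingHom.ker (algebraMap A B), x * y = 0)
    (z : A) (hz : RingHom.ker (algebraMap A B) = Ideal.span {z})
    (hann : ∀ a : A, a * z = 0 → a ∈ RingHom.ker (algebraMap A B)) :
    Nonempty (B ⊗[A] (RingHom.ker (algebraMap A B)) ≃ₗ[B] B) := by
  have hzK : z ∈ RingHom.ker (algebraMap A B) := by
    rw [hz]; exact Ideal.subset_span rfl
  let z' : RingHom.ker (algebraMap A B) := ⟨z, hzK⟩
  let f : B →ₗ[B] B ⊗[A] (RingHom.ker (algebraMap A B)) :=
    LinearMap.toSpanSingleton B _ ((1 : B) ⊗ₜ[A] z')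
  have hf : ∀ b, f b = b • ((1 : B) ⊗ₜ[A] z') := fun b => rfl
  have hinj : Function.Injective f := by
    rw [injective_iff_map_eq_zero]
    intro b hb
    obtain ⟨a, rfl⟩ := hs b
    rw [hf, algebraMap_smul_one_tmul] at hb
    have h0 : (1 : B) ⊗ₜ[A] (a • z') = (1 : B) ⊗ₜ[A] (0 : RingHom.ker (algebraMap A B)) := by
      rw [hb, TensorProduct.tmul_zero]
    have h1 := one_tmul_injective hs hK _ _ h0
    have h2 : a * z = 0 := by
      have := congrArg Subtype.val h1
      simpa [z'] using this
    exact (RingHom.mem_ker).mp (hann a h2)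
  have hsurj : Function.Surjective f := by
    intro t
    obtain ⟨k, rfl⟩ := exists_one_tmul hs t
    have hk : k.1 ∈ Ideal.span {z} := hz ▸ k.2
    obtain ⟨a, ha⟩ := Ideal.mem_span_singleton'.mp hk
    refine ⟨algebraMap A B a, ?_⟩
    rw [hf, algebraMap_smul_one_tmul]
    congr 1
    apply Subtype.ext
    simpa [z'] using ha
  exact ⟨(LinearEquiv.ofBijective f ⟨hinj, hsurj⟩).symm⟩

/-- `B ⊗ K` free of rank one ⇒ principal with annihilator condition. -/
theorem exists_principal_of_equiv (hs : Function.Surjective (algebraMap A B))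
    (hK : ∀ x ∈ RingHom.ker (algebraMap A B), ∀ y ∈ RingHom.ker (algebraMap A B), x * y = 0)
    (e : B ⊗[A] (RingHom.ker (algebraMap A B)) ≃ₗ[B] B) :
    ∃ z : A, RingHom.ker (algebraMap A B) = Ideal.span {z} ∧
      ∀ a : A, a * z = 0 → a ∈ RingHom.ker (algebraMap A B) := by
  obtain ⟨z', hz'⟩ := exists_one_tmul hs (e.symm 1)
  have hgen : ∀ t : B ⊗[A] (RingHom.ker (algebraMap A B)), t = e t • ((1 : B) ⊗ₜ[A] z') := by
    intro t
    rw [← hz', ← map_smul, smul_eq_mul, mul_one, LinearEquiv.symm_apply_apply]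
  refine ⟨z'.1, ?_, ?_⟩
  · apply le_antisymm
    · intro k hk
      obtain ⟨a, ha⟩ := hs (e ((1 : B) ⊗ₜ[A] (⟨k, hk⟩ : RingHom.ker (algebraMap A B))))
      have h1 := hgen ((1 : B) ⊗ₜ[A] (⟨k, hk⟩ : RingHom.ker (algebraMap A B)))
      rw [← ha, algebraMap_smul_one_tmul] at h1
      have h2 := one_tmul_injective hs hK _ _ h1
      have h3 : k = a * z'.1 := by
        have := congrArg Subtype.val h2
        simpa using this
      rw [h3]
      exact Ideal.mem_span_singleton'.mpr ⟨a, rfl⟩
    · rw [Ideal.span_le, Set.singleton_subset_iff]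
      exact z'.2
  · intro a ha
    have h1 : (algebraMap A B a) • ((1 : B) ⊗ₜ[A] z') = 0 := by
      rw [algebraMap_smul_one_tmul]
      have : a • z' = 0 := by
        apply Subtype.ext
        simpa using ha
      rw [this, TensorProduct.tmul_zero]
    have h2 := congrArg e h1
    rw [map_smul, ← hz', LinearEquiv.apply_symm_apply, map_zero, smul_eq_mul, mul_one] at h2
    exact (RingHom.mem_ker).mpr h2

end Groth.Agent.H5.Ribbon
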