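import Mathlib
import Groth.Prelude.Def_MultCurve
import Groth.Prelude.Def_Omega2
import Groth.Prelude.Def_Pic
import Groth.Agent.Lib.Helper3.OmGood
import Groth.Agent.Lib.Lead.QC.IdealMod
import Groth.Agent.Lib.Lead.QC.LocFree
import Groth.Agent.Lib.Lead.QC.FiniteFree
import Groth.Agent.Lib.Lead.QC.Pullback
import Groth.Agent.Lib.Helper5.Ribbon.Alg

set_option autoImplicit false
universe u
open AlgebraicGeometry CategoryTheory TopologicalSpace Opposite CategoryTheory.Limits TensorProduct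
open Groth.Agent.LD.QC Groth.Agent.H3.Om

namespace Groth.Agent.H5.Ribbon

variable (C : Scheme.{u}) (I : C.IdealSheafData)

theorem isGoodChart_subschemeι {U : C.Opens} (hU : IsAffineOpen U) :
    IsGoodChart I.subschemeι U :=
  ⟨hU, hU.preimage I.subschemeι, I.subschemeι.app_surjective U hU⟩

theorem ker_algebraMap_eq {U : C.Opens} (hU : IsAffineOpen U) :
    letI := (I.subschemeι.appLE U (I.subschemeι ⁻¹ᵁ U) le_rfl).hom.toAlgebra
    RingHom.ker (algebraMap Γ(C, U) Γ(I.subscheme, I.subschemeι ⁻¹ᵁ U)) = I.ideal ⟨U, hU⟩ := by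
  letI := (I.subschemeι.appLE U (I.subschemeι ⁻¹ᵁ U) le_rfl).hom.toAlgebra
  have hmap : algebraMap Γ(C, U) Γ(I.subscheme, I.subschemeι ⁻¹ᵁ U) = (I.subschemeι.app U).hom :=
    congrArg CommRingCat.Hom.hom (Scheme.Hom.appLE_eq_app I.subschemeι)
  rw [hmap]
  exact I.ker_subschemeι_app ⟨U, hU⟩

theorem mul_eq_zero_of_sq (hI : I ^ 2 = ⊥) {U : C.Opens} (hU : IsAffineOpen U)
    (x : Γ(C, U)) (hx : x ∈ I.ideal ⟨U, hU⟩) (y : Γ(C, U)) (hy : y ∈ I.ideal ⟨U, hU⟩) :
    x * y = 0 := by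
  have h1 : x * y ∈ (I ^ 2).ideal ⟨U, hU⟩ := by
    rw [Scheme.IdealSheafData.ideal_pow, Pi.pow_apply, pow_two]
    exact Ideal.mul_mem_mul hx hy
  rw [hI] at h1
  exact h1

theorem surjective_subschemeι (hI : I ^ 2 = ⊥) : Function.Surjective I.subschemeι := by
  intro x
  have h : (I ^ 2).support = ⊤ := by rw [hI]; exact Scheme.IdealSheafData.support_bot
  rw [Scheme.IdealSheafData.support_pow _ 2 (by norm_num)] at h
  have hx : x ∈ Set.range I.subschemeι := by
    rw [I.range_subschemeι, h]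
    trivial
  exact hx

theorem isInvertible_conormal_of_principal (hI : I ^ 2 = ⊥)
    (h : MultCurve.IsPrincipalOfOrder I 2) :
    PicF.IsInvertible (Omega.conormal I.subschemeι) := by
  haveI : (Omega.conormal I.subschemeι).IsQuasicoherent := qc_pullback I.subschemeι _
  rw [isInvertible_iff, isFinLocFreeOfRank_iff]
  intro x'
  obtain ⟨U, hxU, z, hz, hann⟩ := h (I.subschemeι x')
  have hg := isGoodChart_subschemeι C I U.2
  letI := (I.subschemeι.appLE U.1 (I.subschemeι ⁻¹ᵁ U.1) le_rfl).hom.toAlgebra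
  obtain ⟨hsurj, σ, Ξ, -, -⟩ := conormal_chart_g I.subschemeι hg
  have hker := ker_algebraMap_eq C I U.2
  have hK : ∀ x ∈ RingHom.ker (algebraMap Γ(C, U.1) Γ(I.subscheme, I.subschemeι ⁻¹ᵁ U.1)),
      ∀ y ∈ RingHom.ker (algebraMap Γ(C, U.1) Γ(I.subscheme, I.subschemeι ⁻¹ᵁ U.1)),
      x * y = 0 := by
    intro x hx y hy
    rw [hker] at hx hy
    exact mul_eq_zero_of_sq C I hI U.2 x hx y hy
  obtain ⟨e⟩ := nonempty_equiv_of_principal hsurj hK z (hker.trans hz) (fun a ha => by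
    rw [hker]
    exact hann a (by simpa using ha))
  exact ⟨I.subschemeι ⁻¹ᵁ U.1, hg.preimage_affine, hxU,
    ⟨Ξ.symm ≪≫ₗ e ≪≫ₗ (LinearEquiv.funUnique (Fin 1) _ _).symm⟩⟩

theorem principal_of_isInvertible_conormal (hI : I ^ 2 = ⊥)
    (h : PicF.IsInvertible (Omega.conormal I.subschemeι)) :
    MultCurve.IsPrincipalOfOrder I 2 := by
  haveI : (Omega.conormal I.subschemeι).IsQuasicoherent := qc_pullback I.subschemeι _
  intro x
  obtain ⟨x', rfl⟩ := surjective_subschemeι C I hI x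
  obtain ⟨W', hxW', ⟨e⟩⟩ := (isInvertible_iff _).mp h x'
  have hce : Topology.IsClosedEmbedding I.subschemeι := I.subschemeι.isClosedEmbedding
  have hbij : Function.Bijective I.subschemeι := ⟨hce.injective, surjective_subschemeι C I hI⟩
  have hopen : IsOpen (I.subschemeι '' (W' : Set I.subscheme)) := by
    have h1 : I.subschemeι '' (W' : Set I.subscheme) =
        (I.subschemeι '' ((W' : Set I.subscheme)ᶜ))ᶜ := by
      rw [Set.image_compl_eq hbij, compl_compl]
    rw [h1, isOpen_compl_iff]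
    exact hce.isClosedMap _ W'.2.isClosed_compl
  obtain ⟨U, hU, hxU, hUW⟩ := exists_isAffineOpen_mem_and_subset (x := I.subschemeι x')
    (U := ⟨_, hopen⟩) ⟨x', hxW', rfl⟩
  have hWW' : I.subschemeι ⁻¹ᵁ U ≤ W' := by
    intro y hy
    obtain ⟨y', hy', e'⟩ := hUW hy
    rwa [← hce.injective e']
  have hg := isGoodChart_subschemeι C I hU
  have hW := hg.preimage_affine
  have hr : Set.range hW.fromSpec ⊆ Set.range W'.ι := by
    rw [hW.range_fromSpec, Scheme.Opens.range_ι]; exact hWW'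
  have h1 := freeMod_of_range_subset (Omega.conormal I.subschemeι) W'.ι hW.fromSpec hr 1 e
  obtain ⟨ℓ⟩ := (restrict_fromSpec_iso_freeMod_iff (Omega.conormal I.subschemeι) hW 1).mp h1
  letI := (I.subschemeι.appLE U (I.subschemeι ⁻¹ᵁ U) le_rfl).hom.toAlgebra
  obtain ⟨hsurj, σ, Ξ, -, -⟩ := conormal_chart_g I.subschemeι hg
  have hker := ker_algebraMap_eq C I hU
  have hK : ∀ x ∈ RingHom.ker (algebraMap Γ(C, U) Γ(I.subscheme, I.subschemeι ⁻¹ᵁ U)),
      ∀ y ∈ RingHom.ker (algebraMap Γ(C, U) Γ(I.subscheme, I.subschemeι ⁻¹ᵁ U)),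
      x * y = 0 := by
    intro x hx y hy
    rw [hker] at hx hy
    exact mul_eq_zero_of_sq C I hI hU x hx y hy
  obtain ⟨z, hz, hann⟩ := exists_principal_of_equiv hsurj hK
    (Ξ ≪≫ₗ ℓ ≪≫ₗ LinearEquiv.funUnique (Fin 1) _ _)
  refine ⟨⟨U, hU⟩, hxU, z, hker ▸ hz, fun a ha => ?_⟩
  rw [← hker]
  exact hann a (by simpa using ha)

theorem main (hI : I ^ 2 = ⊥) :
    MultCurve.IsPrincipalOfOrder I 2 ↔ PicF.IsInvertible (Omega.conormal I.subschemeι) :=
  ⟨isInvertible_conormal_of_principal C I hI, principal_of_isInvertible_conormal C I hI⟩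

end Groth.Agent.H5.Ribbon
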